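import Cfsg.Agent.H215.J7.Iface
import Cfsg.Agent.H40.Critical
import Cfsg.Agent.H35.Chief
import Cfsg.Agent.H39.ChiefTrace

/-!
# S3068, task T8: the layers (helper575)

`t8_good`, `t8_six`: bounds for the action of an element on chief factors below `O_p(G)` from elementwise bounds on
`R` and on `D / R`.
-/

set_option autoImplicit false

namespace Cfsg.Agent.H575.J7

open Subgroup Cfsg Cfsg.Agent.H215.J7
open scoped commutatorElement

universe u

section Elem

variable {G : Type*} [Group G]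

/-- the map `x ↦ [u, x]` -/
def dl (u x : G) : G := ⁅u, x⁆

theorem dl_mem {U : Subgroup G} (hU : U.Normal) (u : G) {x : G} (hx : x ∈ U) : dl u x ∈ U := by
  unfold dl
  rw [commutatorElement_def]
  exact mul_mem (hU.conj_mem x hx u) (inv_mem hx)

theorem dl_mul {U : Subgroup G} (hU : U.Normal) (hab : Ab U) (u : G) {x y : G} (hx : x ∈ U) (hy : y ∈ U) :
    dl u (x * y) = dl u x * dl u y := by
  have h1 : x * dl u y = dl u y * x := hab x hx _ (dl_mem hU u hy)
  have h2 : dl u (x * y) = dl u x * (x * dl u y * x⁻¹) := by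
    simp only [dl, commutatorElement_def]; group
  rw [h2, h1, mul_inv_cancel_right]

theorem dl_conj (u x : G) : dl u (u * x * u⁻¹) = u * dl u x * u⁻¹ := by
  simp only [dl, commutatorElement_def]; group

theorem dl_one (u : G) : dl u 1 = 1 := by simp [dl]

theorem it_mem {U : Subgroup G} (hU : U.Normal) (u : G) (n : ℕ) {x : G} (hx : x ∈ U) : (dl u)^[n] x ∈ U := by
  induction n generalizing x with
  | zero => exact hx
  | succ n ih => exact ih (dl_mem hU u hx)

theorem it_mul {U : Subgroup G} (hU : U.Normal) (hab : Ab U) (u : G) (n : ℕ) {x y : G} (hx : x ∈ U) (hy : y ∈ U) :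
    (dl u)^[n] (x * y) = (dl u)^[n] x * (dl u)^[n] y := by
  induction n generalizing x y with
  | zero => rfl
  | succ n ih =>
    rw [Function.iterate_succ_apply, Function.iterate_succ_apply, Function.iterate_succ_apply, dl_mul hU hab u hx hy]
    exact ih (dl_mem hU u hx) (dl_mem hU u hy)

theorem it_one (u : G) (n : ℕ) : (dl u)^[n] 1 = 1 := by
  induction n with
  | zero => rfl
  | succ n ih => rw [Function.iterate_succ_apply, dl_one, ih]

theorem it_conj (u : G) (n : ℕ) (x : G) : (dl u)^[n] (u * x * u⁻¹) = u * (dl u)^[n] x * u⁻¹ := by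
  induction n generalizing x with
  | zero => rfl
  | succ n ih => rw [Function.iterate_succ_apply, Function.iterate_succ_apply, dl_conj, ih]

/-- the kernel filtration of `x ↦ [u, x]` on an abelian normal subgroup -/
def ker {U : Subgroup G} (hU : U.Normal) (hab : Ab U) (u : G) (j : ℕ) : Subgroup G where
  carrier := {x | x ∈ U ∧ (dl u)^[j] x = 1}
  one_mem' := ⟨one_mem _, it_one u j⟩
  mul_mem' := by
    rintro a b ⟨ha, ha'⟩ ⟨hb, hb'⟩
    exact ⟨mul_mem ha hb, by rw [it_mul hU hab u j ha hb, ha', hb', one_mul]⟩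
  inv_mem' := by
    rintro a ⟨ha, ha'⟩
    refine ⟨inv_mem ha, ?_⟩
    have h1 := it_mul hU hab u j (inv_mem ha) ha
    rw [inv_mul_cancel, it_one, ha', mul_one] at h1
    exact h1.symm

theorem mem_ker {U : Subgroup G} (hU : U.Normal) (hab : Ab U) (u : G) (j : ℕ) {x : G} :
    x ∈ ker hU hab u j ↔ x ∈ U ∧ (dl u)^[j] x = 1 := Iff.rfl

theorem conj_mem_ker {U : Subgroup G} (hU : U.Normal) (hab : Ab U) (u : G) (j : ℕ) {x : G} :
    u * x * u⁻¹ ∈ ker hU hab u j ↔ x ∈ ker hU hab u j := by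
  rw [mem_ker, mem_ker, it_conj, conj_eq_one_iff]
  constructor
  · rintro ⟨h1, h2⟩
    exact ⟨by simpa [mul_assoc] using hU.conj_mem _ h1 u⁻¹, h2⟩
  · rintro ⟨h1, h2⟩
    exact ⟨hU.conj_mem _ h1 u, h2⟩

theorem comm_ker_le {U : Subgroup G} (hU : U.Normal) (hab : Ab U) (u : G) (j : ℕ) :
    ⁅ker hU hab u (j + 1), zpowers u⁆ ≤ ker hU hab u j := by
  have hn : u ∈ normalizer (ker hU hab u j : Set G) := by
    rw [mem_normalizer_iff]
    intro h
    exact (conj_mem_ker hU hab u j).symm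
  have hT : zpowers u ≤ normalizer (ker hU hab u j : Set G) := by
    rw [zpowers_le]; exact hn
  -- the subgroup of the elements centralizing modulo `ker j`
  let T : Subgroup G :=
    { carrier := {g | g ∈ normalizer (ker hU hab u j : Set G) ∧
        ∀ x ∈ ker hU hab u (j + 1), ⁅x, g⁆ ∈ ker hU hab u j}
      one_mem' := ⟨one_mem _, fun x _ => by rw [commutatorElement_one_right]; exact one_mem _⟩
      mul_mem' := by
        rintro a b ⟨ha, ha'⟩ ⟨hb, hb'⟩
        refine ⟨mul_mem ha hb, fun x hx => ?_⟩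
        have h1 : ⁅x, a * b⁆ = ⁅x, a⁆ * (a * ⁅x, b⁆ * a⁻¹) := by
          simp only [commutatorElement_def]; group
        rw [h1]
        exact mul_mem (ha' x hx) ((mem_normalizer_iff.1 ha _).1 (hb' x hx))
      inv_mem' := by
        rintro a ⟨ha, ha'⟩
        refine ⟨inv_mem ha, fun x hx => ?_⟩
        have h1 : ⁅x, a⁻¹⁆ = a⁻¹ * ⁅x, a⁆⁻¹ * a⁻¹⁻¹ := by
          simp only [commutatorElement_def]; group
        rw [h1]
        exact (mem_normalizer_iff.1 (inv_mem ha) _).1 (inv_mem (ha' x hx)) }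
  have huT : u ∈ T := by
    refine ⟨hn, fun x hx => ?_⟩
    rw [← commutatorElement_inv]
    refine inv_mem ⟨dl_mem hU u hx.1, ?_⟩
    exact hx.2
  rw [commutator_le]
  intro x hx g hg
  have hgT : g ∈ T := (zpowers_le.2 huT) hg
  exact hgT.2 x hx

theorem iter_eq_bot {U : Subgroup G} (hU : U.Normal) (hab : Ab U) (u : G) (n : ℕ)
    (h : ∀ x ∈ U, (dl u)^[n] x = 1) : iterCommutator U (zpowers u) n = ⊥ := by
  have key : ∀ k j : ℕ, k + j = n → iterCommutator U (zpowers u) k ≤ ker hU hab u j := by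
    intro k
    induction k with
    | zero =>
      intro j hj x hx
      obtain rfl : j = n := by omega
      exact ⟨hx, h x hx⟩
    | succ k ih =>
      intro j hj
      exact (commutator_mono (ih (j + 1) (by omega)) le_rfl).trans (comm_ker_le hU hab u j)
  rw [eq_bot_iff]
  intro x hx
  exact (key n 0 (by omega) hx).2

theorem it_map {H : Type*} [Group H] (f : G →* H) (u x : G) (n : ℕ) :
    f ((dl u)^[n] x) = (dl (f u))^[n] (f x) := by
  induction n generalizing x with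
  | zero => rfl
  | succ n ih =>
    rw [Function.iterate_succ_apply, Function.iterate_succ_apply, ih]
    congr 1
    exact map_commutatorElement f u x

theorem iter_le {U V : Subgroup G} (hU : U.Normal) (hV : V.Normal) (hc : ∀ x ∈ U, ∀ y ∈ U, ⁅x, y⁆ ∈ V) (u : G)
    (n : ℕ) (h : ∀ x ∈ U, (dl u)^[n] x ∈ V) : iterCommutator U (zpowers u) n ≤ V := by
  have hfs := QuotientGroup.mk'_surjective V
  have h1 : (iterCommutator U (zpowers u) n).map (QuotientGroup.mk' V) = ⊥ := by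
    rw [H35.Chief.iter_map, MonoidHom.map_zpowers]
    refine iter_eq_bot (hU.map _ hfs) ?_ _ n ?_
    · rintro _ ⟨x, hx, rfl⟩ _ ⟨y, hy, rfl⟩
      rw [← commutatorElement_eq_one_iff_mul_comm, ← map_commutatorElement]
      exact (QuotientGroup.eq_one_iff _).2 (hc x hx y hy)
    · rintro _ ⟨x, hx, rfl⟩
      rw [← it_map]
      exact (QuotientGroup.eq_one_iff _).2 (h x hx)
  rw [Subgroup.map_eq_bot_iff, QuotientGroup.ker_mk'] at h1
  exact h1

end Elem

variable {G : Type u} [Group G] [Finite G] {p : ℕ} [Fact p.Prime]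

/-- chief factors in `R` -/
theorem chief_R {Q R : Subgroup G} (hQ : Q.Normal) (hQp : IsPGroup p Q) (hRQ : R ≤ Q) {u : G}
    (hR : ∀ X : Subgroup G, X.Normal → X ≤ R → ∀ x ∈ X, ⁅u, ⁅u, ⁅u, x⁆⁆⁆ ∈ ⁅X, Q⁆)
    {U V : Subgroup G} (hUV : IsChiefFactor U V) (hU : U ≤ R) : iterCommutator U (zpowers u) 3 ≤ V := by
  have hUp : IsPGroup p U := hQp.to_le (hU.trans hRQ)
  refine iter_le hUV.2.1 hUV.2.2.1 (H39.chief_elementary hUV hUp).1 u 3 fun x hx => ?_
  exact H41.ChiefFactor.commutator_le hUV hQ hQp (hU.trans hRQ) (hR U hUV.2.1 hU x hx)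

/-- chief factors in `D` -/
theorem chief_D {Q R D : Subgroup G} (hQ : Q.Normal) (hQp : IsPGroup p Q) (h : RD p Q R D) {u : G}
    (hR : ∀ X : Subgroup G, X.Normal → X ≤ R → ∀ x ∈ X, ⁅u, ⁅u, ⁅u, x⁆⁆⁆ ∈ ⁅X, Q⁆) {n : ℕ} (hn : 3 ≤ n)
    (hD : ∀ x ∈ D, (dl u)^[n] x ∈ R)
    {U V : Subgroup G} (hUV : IsChiefFactor U V) (hU : U ≤ D) : iterCommutator U (zpowers u) n ≤ V := by
  have hRn := h.Rn
  have hUn := hUV.2.1
  have hVn := hUV.2.2.1
  by_cases hUR : U ⊓ R ≤ V
  · have hUp : IsPGroup p U := hQp.to_le (hU.trans h.leQ)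
    refine iter_le hUV.2.1 hUV.2.2.1 (H39.chief_elementary hUV hUp).1 u n fun x hx => ?_
    exact hUR ⟨it_mem hUn u n hx, hD x (hU hx)⟩
  · obtain ⟨hcov, hch⟩ := H40.Critical.chief_inf hUV (N := U ⊓ R) inferInstance inf_le_left hUR
    have h3 := chief_R hQ hQp (h.le.trans h.leQ) hR hch inf_le_right
    have h4 : iterCommutator (U ⊓ R) (zpowers u) n ≤ U ⊓ R ⊓ V := H40.Critical.iter_le_of_le hn h3
    rw [← hcov]
    exact (H40.Critical.iter_sup_normal_le _ _ _ _).trans (sup_le (h4.trans inf_le_right) le_rfl)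

theorem t8_good (hp : 7 ≤ p) {R D : Subgroup G} (h : RD p (pCore p G) R D) {u : G}
    (hR : ∀ X : Subgroup G, X.Normal → X ≤ R → ∀ x ∈ X, ⁅u, ⁅u, ⁅u, x⁆⁆⁆ ∈ ⁅X, pCore p G⁆)
    (hD : ∀ x ∈ D, ⁅u, ⁅u, ⁅u, ⁅u, x⁆⁆⁆⁆ ∈ R) : H39.Good p (pCore p G) u := by
  have hQ : (pCore p G).Normal := inferInstance
  have hQp : IsPGroup p (pCore p G) := Cfsg.Agent.Lib.Cores.pCore_isPGroup p
  intro U V hUV hU
  have hUn := hUV.2.1
  have hVn := hUV.2.2.1
  have hDn := h.Dn
  have hR' : ∀ {X Y : Subgroup G}, IsChiefFactor X Y → X ≤ R → iterCommutator X (zpowers u) 3 ≤ Y :=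
    fun hXY hX => chief_R hQ hQp (h.le.trans h.leQ) hR hXY hX
  have hD' : ∀ {X Y : Subgroup G}, IsChiefFactor X Y → X ≤ D → iterCommutator X (zpowers u) 4 ≤ Y :=
    fun hXY hX => chief_D hQ hQp h hR (n := 4) (by norm_num) hD hXY hX
  by_cases hc : U ⊓ centralizer (D : Set G) ≤ V
  · have h6 : iterCommutator U (zpowers u) (4 + 3 - 1) ≤ V :=
      H40.Critical.iterCommutator_le_aux (P := pCore p G) (Q := D) (Z := R) hQ hQp hDn h.leQ
        (by rw [commutator_comm]; exact h.DQ) h.le u (by norm_num) (fun X Y hXY hX => hD' hXY hX)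
        (fun X Y hXY hX => hR' hXY hX) hUV hU hc
    exact H40.Critical.iter_le_of_le (by omega) h6
  · obtain ⟨hcov, hch⟩ := H40.Critical.chief_inf hUV (N := U ⊓ centralizer (D : Set G)) inferInstance inf_le_left hc
    have hle : U ⊓ centralizer (D : Set G) ≤ R := (inf_le_inf_right _ hU).trans h.cen
    have h3 := hR' hch hle
    have h4 : iterCommutator (U ⊓ centralizer (D : Set G)) (zpowers u) (p - 1) ≤
        U ⊓ centralizer (D : Set G) ⊓ V := H40.Critical.iter_le_of_le (by omega) h3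
    rw [← hcov]
    exact (H40.Critical.iter_sup_normal_le _ _ _ _).trans (sup_le (h4.trans inf_le_right) le_rfl)

/-- the bound `6` on the chief factors in `D`, used for T7c -/
theorem t8_six {Q R D : Subgroup G} (hQ : Q.Normal) (hQp : IsPGroup p Q) (h : RD p Q R D) {A : Subgroup G}
    (hR : ∀ X : Subgroup G, X.Normal → X ≤ R → ∀ x ∈ X, ∀ u ∈ A, ⁅u, ⁅u, ⁅u, x⁆⁆⁆ ∈ ⁅X, Q⁆)
    (hD : ∀ x ∈ D, ∀ u ∈ A, ⁅u, ⁅u, ⁅u, ⁅u, ⁅u, ⁅u, x⁆⁆⁆⁆⁆⁆ ∈ R) :
    ∀ U V : Subgroup G, IsChiefFactor U V → U ≤ D → ∀ a ∈ A, iterCommutator U (zpowers a) 6 ≤ V := by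
  intro U V hUV hU a ha
  exact chief_D hQ hQp h (fun X hX hXR x hx => hR X hX hXR x hx a ha) (n := 6) (by norm_num)
    (fun x hx => hD x hx a ha) hUV hU

end Cfsg.Agent.H575.J7
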